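import Groth.Agent.S3406
import Groth.Agent.S5767

/-!
# Parts of systems of parameters over semi-local rings
-/

set_option autoImplicit false
set_option linter.style.haveILetI false

namespace Groth.Agent.H4Param

universe u

variable {A : Type u} [CommRing A] [IsNoetherianRing A] [Finite (MaximalSpectrum A)]

theorem exists_supportDim_eq_nat (M : Type u) [AddCommGroup M] [Module A M] [Module.Finite A M] [Nontrivial M] :
    ∃ d : ℕ, Module.supportDim A M = (d : WithBot ℕ∞) := by
  obtain ⟨N, hN⟩ := S5767.dim_ne_top (A := A)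
  have h := (Module.supportDim_le_ringKrullDim A M).trans hN
  obtain ⟨e, he⟩ := WithBot.ne_bot_iff_exists.1 ((Module.supportDim_ne_bot_iff_nontrivial A M).2 inferInstance)
  rw [← he] at h ⊢
  obtain ⟨k, rfl⟩ := ENat.ne_top_iff_exists.1 (show e ≠ ⊤ from fun e' => absurd (e' ▸ WithBot.coe_le_coe.1 h) (by simp))
  exact ⟨k, rfl⟩

/-- Systems of parameters exist. -/
theorem exists_sop (M : Type u) [AddCommGroup M] [Module A M] [Module.Finite A M] [Nontrivial M] :
    ∃ ys : List A, (∀ y ∈ ys, y ∈ Ring.jacobson A) ∧ (ys.length : WithBot ℕ∞) = Module.supportDim A M ∧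
      IsFiniteLength A (M ⧸ (Ideal.ofList ys • (⊤ : Submodule A M))) := by
  obtain ⟨d, hd⟩ := exists_supportDim_eq_nat (A := A) M
  let S : Set (WithBot ℕ∞) := {k | ∃ (n : ℕ) (x : Fin n → A), k = n ∧ (∀ i, x i ∈ Ring.jacobson A) ∧
        IsFiniteLength A (M ⧸ (Ideal.span (Set.range x) • (⊤ : Submodule A M)))}
  have hS : Module.supportDim A M = sInf S := S3406.result A M
  have hne : S.Nonempty := by
    by_contra hemp
    rw [Set.not_nonempty_iff_eq_empty.1 hemp, sInf_empty, hd] at hS
    rw [← WithBot.coe_top] at hS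
    exact ENat.natCast_ne_top d (WithBot.coe_inj.1 hS)
  obtain ⟨n, x, hk, hx, hfl⟩ := csInf_mem hne
  refine ⟨List.ofFn x, fun y hy => by obtain ⟨i, rfl⟩ := List.mem_ofFn.1 hy; exact hx i, ?_, ?_⟩
  · rw [List.length_ofFn, hS, hk]
  · have : Ideal.ofList (List.ofFn x) = Ideal.span (Set.range x) := by
      rw [Ideal.ofList]; congr 1; ext a; simp
    rw [this]; exact hfl

/-- Finite length modulo a list in the radical bounds the dimension. -/
theorem supportDim_le_length (M : Type u) [AddCommGroup M] [Module A M] [Module.Finite A M] [Nontrivial M]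
    (ys : List A) (hy : ∀ y ∈ ys, y ∈ Ring.jacobson A)
    (hfl : IsFiniteLength A (M ⧸ (Ideal.ofList ys • (⊤ : Submodule A M)))) :
    Module.supportDim A M ≤ (ys.length : WithBot ℕ∞) := by
  rw [S3406.result A M]
  refine sInf_le ⟨ys.length, fun i => ys.get i, rfl, fun i => hy _ (List.get_mem _ _), ?_⟩
  have : Ideal.span (Set.range fun i => ys.get i) = Ideal.ofList ys := by
    rw [Ideal.ofList]; congr 1; ext a; simp [List.mem_iff_get]
  rw [this]; exact hfl

/-- The quotient by two successive lists. -/
noncomputable def quotAppend (M : Type u) [AddCommGroup M] [Module A M] (xs ys : List A) :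
    ((M ⧸ (Ideal.ofList xs • (⊤ : Submodule A M))) ⧸
      (Ideal.ofList ys • (⊤ : Submodule A (M ⧸ (Ideal.ofList xs • (⊤ : Submodule A M)))))) ≃ₗ[A]
    M ⧸ (Ideal.ofList (xs ++ ys) • (⊤ : Submodule A M)) :=
  ((Submodule.quotEquivOfEq _ _ (by rw [Submodule.map_smul'', Submodule.map_top, Submodule.range_mkQ])).trans
    (Submodule.quotientQuotientEquivQuotientSup _ _)).trans
    (Submodule.quotEquivOfEq _ _ (by rw [Ideal.ofList_append, Submodule.sup_smul]))

theorem nontrivial_quot (M : Type u) [AddCommGroup M] [Module A M] [Module.Finite A M] [Nontrivial M]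
    (xs : List A) (hxs : ∀ x ∈ xs, x ∈ Ring.jacobson A) :
    Nontrivial (M ⧸ (Ideal.ofList xs • (⊤ : Submodule A M))) :=
  Submodule.Quotient.nontrivial_iff.2 fun h => Submodule.top_ne_ideal_smul_of_le_jacobson_annihilator (M := M)
    ((Ideal.span_le.2 hxs).trans Ideal.ringJacobson_le_jacobson) h.symm

/-- Equality in the dimension bound characterizes parts of systems of parameters. -/
theorem add_length_eq_iff (M : Type u) [AddCommGroup M] [Module A M]
    [Module.Finite A M] [Nontrivial M] (xs : List A) (hxs : ∀ x ∈ xs, x ∈ Ring.jacobson A) :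
    Module.supportDim A (M ⧸ (Ideal.ofList xs • (⊤ : Submodule A M))) + xs.length = Module.supportDim A M ↔
      ∃ ys : List A, (∀ y ∈ ys, y ∈ Ring.jacobson A) ∧
        ((xs ++ ys).length : WithBot ℕ∞) = Module.supportDim A M ∧
        IsFiniteLength A (M ⧸ (Ideal.ofList (xs ++ ys) • (⊤ : Submodule A M))) := by
  haveI := nontrivial_quot M xs hxs
  constructor
  · intro h
    obtain ⟨ys, hy, hlen, hfl⟩ := exists_sop (A := A) (M ⧸ (Ideal.ofList xs • (⊤ : Submodule A M)))
    refine ⟨ys, hy, ?_, (quotAppend M xs ys).isFiniteLength hfl⟩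
    rw [← h, ← hlen, List.length_append]
    push_cast
    exact add_comm _ _
  · rintro ⟨ys, hy, hlen, hfl⟩
    obtain ⟨zs, hz, hzlen, hzfl⟩ := exists_sop (A := A) (M ⧸ (Ideal.ofList xs • (⊤ : Submodule A M)))
    refine le_antisymm ?_ ?_
    · have h1 := supportDim_le_length (A := A) (M ⧸ (Ideal.ofList xs • (⊤ : Submodule A M))) ys hy
        ((quotAppend M xs ys).symm.isFiniteLength hfl)
      rw [← hlen, List.length_append]
      push_cast
      exact (add_le_add h1 le_rfl).trans (add_comm _ _).le
    · have h1 := supportDim_le_length (A := A) M (xs ++ zs)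
        (fun a ha => (List.mem_append.1 ha).elim (hxs a) (hz a)) ((quotAppend M xs zs).isFiniteLength hzfl)
      rw [← hzlen]
      refine h1.trans (le_of_eq ?_)
      rw [List.length_append]
      push_cast
      exact add_comm _ _

omit [IsNoetherianRing A] [Finite (MaximalSpectrum A)] in
theorem annihilator_quot_smul_top (I : Ideal A) : Module.annihilator A (A ⧸ (I • (⊤ : Submodule A A))) = I := by
  rw [(Submodule.quotEquivOfEq _ I (by rw [smul_eq_mul, Ideal.mul_top])).annihilator_eq]
  exact Ideal.annihilator_quotient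

omit [IsNoetherianRing A] [Finite (MaximalSpectrum A)] in
theorem coheight_le_supportDim {M : Type u} [AddCommGroup M] [Module A M] [Module.Finite A M]
    {q : PrimeSpectrum A} (hq : q ∈ Module.support A M) :
    ((Order.coheight q : ℕ∞) : WithBot ℕ∞) ≤ Module.supportDim A M := by
  rw [Order.coheight_eq_krullDim_Ici]
  refine Order.krullDim_le_of_strictMono (fun y : Set.Ici q => (⟨y.1, ?_⟩ : Module.support A M)) fun _ _ h => h
  rw [Module.support_eq_zeroLocus] at hq ⊢
  exact fun a ha => y.2 (hq ha)

/-- Avoidance step: inside an ideal of large height, parameters can be chosen. -/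
theorem exists_params (a : Ideal A) (P : Ideal A) [P.IsPrime] (haP : a ≤ P) (h : ℕ) (hh : a.height = h)
    (hP : P.height = h) (d : ℕ) (hd : ringKrullDim A = d) :
    ∀ i ≤ h, ∃ xs : List A, xs.length = i ∧ (∀ x ∈ xs, x ∈ a) ∧ (∀ x ∈ xs, x ∈ Ring.jacobson A) ∧
      Module.supportDim A (A ⧸ (Ideal.ofList xs • (⊤ : Submodule A A))) + i = (d : WithBot ℕ∞) ∧
      ∀ q : Ideal A, q.IsPrime → Ideal.ofList xs ≤ q → q ≤ P → (i : ℕ∞) ≤ q.height := by
  classical
  intro i
  induction i with
  | zero =>
    intro _
    refine ⟨[], rfl, by simp, by simp, ?_, fun q _ _ _ => zero_le⟩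
    rw [Nat.cast_zero, add_zero, ← hd, ← Module.supportDim_self_eq_ringKrullDim]
    exact Module.supportDim_eq_of_equiv (Submodule.quotEquivOfEqBot _ (by rw [Ideal.ofList_nil, Submodule.bot_smul]))
  | succ i ih =>
    intro hi
    obtain ⟨xs, hlen, hxa, hxj, hdim, hht⟩ := ih (Nat.le_of_succ_le hi)
    let I := Ideal.ofList xs
    let N := A ⧸ (I • (⊤ : Submodule A A))
    have hIJ : I ≤ Ring.jacobson A := Ideal.span_le.2 hxj
    have hfin := I.finite_minimalPrimes_of_isNoetherianRing
    let bad := hfin.toFinset.filter fun p => ¬ p.IsMaximal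
    have hbad : ∀ p ∈ bad, ¬ a ⊓ Ring.jacobson A ≤ p := by
      intro p hp hle
      obtain ⟨hp1, hp2⟩ := Finset.mem_filter.1 hp
      rw [hfin.mem_toFinset] at hp1
      haveI := hp1.1.1
      rcases (Ideal.IsPrime.inf_le inferInstance).1 hle with h1 | h1
      · have hhp : p.height ≤ (i : ℕ∞) := by
          refine (Ideal.height_le_spanRank_toENat_of_mem_minimal_primes I p hp1).trans ?_
          refine (Cardinal.toENat.monotone' (Submodule.spanRank_span_le_card _)).trans ?_
          rw [← hlen]
          have hfs : {r | r ∈ xs}.Finite := xs.finite_toSet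
          refine (Cardinal.toENat_le_natCast).2 ?_
          rw [show ({r | r ∈ xs} : Set A) = (xs.toFinset : Set A) by ext; simp]
          exact (Cardinal.mk_coe_finset.le.trans (Nat.cast_le.2 xs.toFinset_card_le))
        have h2 : (h : ℕ∞) ≤ i := hh ▸ (Ideal.height_mono h1).trans hhp
        have : h ≤ i := by exact_mod_cast h2
        omega
      · obtain ⟨m, hm, hpm⟩ := Ideal.exists_le_maximal p (Ideal.IsPrime.ne_top inferInstance)
        haveI := Fintype.ofFinite (MaximalSpectrum A)
        have hinf : (Finset.univ : Finset (MaximalSpectrum A)).inf (fun m => m.asIdeal) ≤ p :=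
          le_trans (by
            rw [Ring.jacobson_eq_sInf_isMaximal]
            exact le_sInf fun J hJ =>
              Finset.inf_le (f := fun m : MaximalSpectrum A => m.asIdeal) (Finset.mem_univ ⟨J, hJ⟩)) h1
        obtain ⟨m', -, hm'⟩ := (Ideal.IsPrime.inf_le' inferInstance).1 hinf
        exact hp2 ((m'.isMaximal.eq_of_le (Ideal.IsPrime.ne_top inferInstance) hm') ▸ m'.isMaximal)
    have hu : ¬ ((a ⊓ Ring.jacobson A : Ideal A) : Set A) ⊆ ⋃ p ∈ (bad : Set (Ideal A)), (p : Set A) := fun hsub =>
      (Ideal.subset_union_prime ⊥ ⊥ (fun p hp _ _ => (hfin.mem_toFinset.1 (Finset.mem_filter.1 hp).1).1.1)).1 hsub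
        |>.elim fun p hp => hbad p hp.1 hp.2
    obtain ⟨x, hx, hxb⟩ := Set.not_subset.1 hu
    simp only [Set.mem_iUnion, not_exists] at hxb
    refine ⟨xs ++ [x], by simp [hlen], ?_, ?_, ?_, ?_⟩
    · intro y hy
      rcases List.mem_append.1 hy with hy | hy
      exacts [hxa y hy, (List.mem_singleton.1 hy) ▸ hx.1]
    · intro y hy
      rcases List.mem_append.1 hy with hy | hy
      exacts [hxj y hy, (List.mem_singleton.1 hy) ▸ hx.2]
    · haveI : Nontrivial A := nontrivial_of_ne (0 : A) 1 fun h01 => (inferInstance : P.IsPrime).ne_top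
        ((Ideal.eq_top_iff_one _).2 (h01 ▸ P.zero_mem))
      haveI : Nontrivial N := nontrivial_quot A xs hxj
      have hstep : Module.supportDim A (QuotSMulTop x N) + 1 = Module.supportDim A N := by
        refine (S5767.result A N x hx.2).2 fun p hp hpD hxp => ?_
        obtain ⟨D, hD⟩ := exists_supportDim_eq_nat (A := A) N
        rw [← S5767.coheight_eq, hD] at hpD
        have hpc : Order.coheight p = (D : ℕ∞) := WithBot.coe_inj.1 hpD
        have hIp : I ≤ p.asIdeal := by
          rw [Module.support_eq_zeroLocus, PrimeSpectrum.mem_zeroLocus] at hp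
          intro r hr
          refine hp ?_
          show r ∈ Module.annihilator A N
          rw [annihilator_quot_smul_top]
          exact hr
        obtain ⟨q, hq, hqp⟩ := Ideal.exists_minimalPrimes_le hIp
        haveI := hq.1.1
        have hqN : (⟨q, inferInstance⟩ : PrimeSpectrum A) ∈ Module.support A N := by
          rw [Module.mem_support_iff_of_finite, annihilator_quot_smul_top]
          exact hq.1.2
        have hqc := coheight_le_supportDim hqN
        rw [hD] at hqc
        have hqc' : Order.coheight (⟨q, inferInstance⟩ : PrimeSpectrum A) ≤ (D : ℕ∞) := WithBot.coe_le_coe.1 hqc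
        have hqp' : q = p.asIdeal := by
          by_contra hne
          have hlt : (⟨q, inferInstance⟩ : PrimeSpectrum A) < p := lt_of_le_of_ne hqp fun e => hne (congrArg PrimeSpectrum.asIdeal e)
          have h1 : Order.coheight p + 1 ≤ (D : ℕ∞) := (Order.coheight_add_one_le hlt).trans hqc'
          rw [hpc] at h1
          have : D + 1 ≤ D := by exact_mod_cast h1
          omega
        refine hxb q ?_ (hqp' ▸ hxp)
        refine Finset.mem_coe.2 (Finset.mem_filter.2 ⟨hfin.mem_toFinset.2 hq, fun hmax => ?_⟩)
        subst hqp'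
        have hz : Order.coheight p = 0 := Order.coheight_eq_zero.2 fun r hr =>
          le_of_eq (PrimeSpectrum.ext (hmax.eq_of_le r.2.ne_top hr).symm)
        rw [hpc] at hz
        have hD0 : D = 0 := by exact_mod_cast hz
        rw [hD, hD0, Nat.cast_zero, zero_add] at hdim
        have hid : i = d := by exact_mod_cast hdim
        have hhd : (h : WithBot ℕ∞) ≤ d := by
          have h0 := Ideal.height_le_ringKrullDim_of_ne_top (Ideal.IsPrime.ne_top ‹P.IsPrime›)
          rw [hP, hd] at h0
          exact h0
        have : h ≤ d := by exact_mod_cast hhd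
        omega
      rw [← hdim, ← hstep, Nat.cast_succ, ← add_assoc, add_right_comm]
      congr 2
      refine Module.supportDim_eq_of_equiv ((quotAppend A xs [x]).symm.trans (Submodule.quotEquivOfEq _ _ ?_))
      rw [Ideal.ofList_singleton, Submodule.ideal_span_singleton_smul]
    · intro q hq hle hqP
      haveI := hq
      have hIq : I ≤ q := le_trans (by rw [Ideal.ofList_append]; exact le_sup_left) hle
      have hxq : x ∈ q := hle (Ideal.subset_span (List.mem_append_right _ (List.mem_singleton_self x)))
      obtain ⟨p, hp, hpq⟩ := Ideal.exists_minimalPrimes_le hIq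
      haveI := hp.1.1
      have hip : (i : ℕ∞) ≤ p.height := hht p inferInstance hp.1.2 (hpq.trans hqP)
      rcases eq_or_lt_of_le hpq with rfl | hlt
      · have hmax : p.IsMaximal := by
          by_contra hmax
          exact hxb p (Finset.mem_coe.2 (Finset.mem_filter.2 ⟨hfin.mem_toFinset.2 hp, hmax⟩)) hxq
        rw [hmax.eq_of_le (Ideal.IsPrime.ne_top inferInstance) hqP, hP]
        exact_mod_cast hi
      · calc ((i + 1 : ℕ) : ℕ∞) = (i : ℕ∞) + 1 := by push_cast; rfl
          _ ≤ p.height + 1 := add_le_add hip le_rfl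
          _ ≤ q.height := Order.add_one_le_of_lt (Ideal.height_strict_mono_of_isPrime hlt)

end Groth.Agent.H4Param
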